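import Mathlib

/-!
The orbital graph of a transitive action on 100 points with suborbits of sizes 1, 22, 77.
-/

set_option autoImplicit false

namespace Cfsg.Agent.Lib.HSRankThree49

open Finset Matrix

/-- The trace of an idempotent rational matrix is a natural number. -/
theorem trace_idem_nat {ι : Type*} [Fintype ι] [DecidableEq ι] (P : Matrix ι ι ℚ) (h : P * P = P) :
    ∃ n : ℕ, P.trace = n := by
  have he : IsIdempotentElem (Matrix.toLin' P) := by
    show Matrix.toLin' P * Matrix.toLin' P = Matrix.toLin' P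
    rw [Module.End.mul_eq_comp, ← Matrix.toLin'_mul, h]
  refine ⟨Module.finrank ℚ (LinearMap.range (Matrix.toLin' P)), ?_⟩
  rw [← (LinearMap.IsIdempotentElem.isProj_range _ he).trace, LinearMap.trace_eq_matrix_trace ℚ (Pi.basisFun ℚ ι),
    ← Matrix.toLin_eq_toLin', LinearMap.toMatrix_toLin]

variable {Ω : Type*} [Fintype Ω] [DecidableEq Ω]

/-- A strongly regular graph on 100 points of valency 22 with `2 (21 - l) = 7 m` has no triangle. -/
theorem srg_params {G : SimpleGraph Ω} [DecidableRel G.Adj] {l m : ℕ}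
    (h : G.IsSRGWith 100 22 l m) (hl : l ≤ 21) (hlm : 2 * (21 - l) = 7 * m) : l = 0 ∧ m = 6 := by
  have hc : (l = 0 ∧ m = 6) ∨ (l = 7 ∧ m = 4) ∨ (l = 14 ∧ m = 2) ∨ (l = 21 ∧ m = 0) := by
    omega
  have hJ : ∀ (M : Matrix Ω Ω ℚ) (r : ℚ), (∀ i, ∑ j, M i j = r) →
      M * Matrix.of (fun _ _ : Ω => (1 : ℚ)) = r • Matrix.of (fun _ _ : Ω => (1 : ℚ)) := by
    intro M r hM
    ext i j
    simp [Matrix.mul_apply, hM i]
  have hJ' : ∀ (M : Matrix Ω Ω ℚ) (r : ℚ), (∀ j, ∑ i, M i j = r) →
      Matrix.of (fun _ _ : Ω => (1 : ℚ)) * M = r • Matrix.of (fun _ _ : Ω => (1 : ℚ)) := by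
    intro M r hM
    ext i j
    simp [Matrix.mul_apply, hM j]
  have hrow : ∀ i, ∑ j, G.adjMatrix ℚ i j = 22 := by
    intro i
    simp [SimpleGraph.adjMatrix_apply, Finset.sum_boole, ← SimpleGraph.neighborFinset_eq_filter,
      h.regular i]
  have hcol : ∀ j, ∑ i, G.adjMatrix ℚ i j = 22 := by
    intro j
    rw [← hrow j]
    refine Finset.sum_congr rfl fun i _ => ?_
    simp [SimpleGraph.adjMatrix_apply, G.adj_comm]
  have hA := h.matrix_eq (α := ℚ)
  have hC : Gᶜ.adjMatrix ℚ = Matrix.of (fun _ _ : Ω => (1 : ℚ)) - 1 - G.adjMatrix ℚ := by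
    ext i j
    by_cases hij : i = j
    · subst hij; simp
    · by_cases hadj : G.Adj i j <;> simp [hij, hadj]
  set A := G.adjMatrix ℚ with hAdef
  set J : Matrix Ω Ω ℚ := Matrix.of (fun _ _ : Ω => (1 : ℚ)) with hJdef
  have hAJ : A * J = (22 : ℚ) • J := hJ A 22 hrow
  have hJA : J * A = (22 : ℚ) • J := hJ' A 22 hcol
  have hJJ : J * J = (100 : ℚ) • J := by
    refine hJ J 100 fun i => ?_
    simp [hJdef, h.card]
  have htrA : A.trace = 0 := SimpleGraph.trace_adjMatrix _ _
  have htrJ : J.trace = 100 := by simp [hJdef, Matrix.trace, h.card]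
  have htr1 : (1 : Matrix Ω Ω ℚ).trace = 100 := by simp [Matrix.trace_one, h.card]
  rcases hc with hc | ⟨rfl, rfl⟩ | ⟨rfl, rfl⟩ | ⟨rfl, rfl⟩
  · exact hc
  · exfalso
    have e : A * A = (22 : ℕ) • (1 : Matrix Ω Ω ℚ) + (7 : ℕ) • A + (4 : ℕ) • (J - 1 - A) := by
      rw [← sq, hA, hC]
    set P : Matrix Ω Ω ℚ := (1 / 9 : ℚ) • (A + (3 : ℚ) • (1 : Matrix Ω Ω ℚ) - (1 / 4 : ℚ) • J)
    have hP : P * P = P := by
      simp only [P, smul_mul_assoc, mul_smul_comm, add_mul, mul_add, sub_mul, mul_sub, one_mul,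
        mul_one, e, hAJ, hJA, hJJ]
      module
    obtain ⟨n, hn⟩ := trace_idem_nat P hP
    simp only [P, Matrix.trace_smul, Matrix.trace_sub, Matrix.trace_add, htrA, htrJ, htr1,
      smul_eq_mul] at hn
    have : ((275 : ℕ) : ℚ) = ((9 * n : ℕ) : ℚ) := by push_cast; linarith
    have := (Nat.cast_inj (R := ℚ)).1 this
    omega
  · exfalso
    obtain ⟨a⟩ : Nonempty Ω := Fintype.card_pos_iff.1 (by rw [h.card]; norm_num)
    have hda : (G.neighborFinset a).card = 22 := h.regular a
    obtain ⟨y, hy⟩ : (G.neighborFinset a).Nonempty := Finset.card_pos.1 (by omega)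
    have hay : G.Adj a y := (SimpleGraph.mem_neighborFinset _ _ _).1 hy
    have hin : ∀ z, G.Adj a z → (G.neighborFinset a ∩ G.neighborFinset z).card = 14 := by
      intro z hz
      rw [← h.of_adj a z hz, ← Set.toFinset_card]
      congr 1
      ext w
      rw [Set.mem_toFinset]
      simp [SimpleGraph.commonNeighbors]
    obtain ⟨y', hy'⟩ : ((G.neighborFinset a \ G.neighborFinset y).erase y).Nonempty := by
      refine Finset.card_pos.1 ?_
      have h1 := Finset.card_sdiff_add_card_inter (G.neighborFinset a) (G.neighborFinset y)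
      have h2 := hin y hay
      have h3 := (Finset.pred_card_le_card_erase (a := y)
        (s := G.neighborFinset a \ G.neighborFinset y))
      omega
    simp only [Finset.mem_erase, Finset.mem_sdiff, SimpleGraph.mem_neighborFinset] at hy'
    obtain ⟨hne, hay', hnadj⟩ := hy'
    set N := G.neighborFinset a
    set S1 := N ∩ G.neighborFinset y
    set S2 := N ∩ G.neighborFinset y'
    have hu : S1 ∪ S2 ⊆ N := Finset.union_subset Finset.inter_subset_left Finset.inter_subset_left
    have hcard := Finset.card_union_add_card_inter S1 S2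
    have h1 : S1.card = 14 := hin y hay
    have h2 : S2.card = 14 := hin y' hay'
    have h3 : (S1 ∪ S2).card ≤ 22 := (Finset.card_le_card hu).trans hda.le
    have h4 : (S1 ∩ S2).card ≤ 2 := by
      rw [← h.of_not_adj (Ne.symm hne) hnadj, ← Set.toFinset_card]
      refine Finset.card_le_card fun w hw => ?_
      simp only [S1, S2, Finset.mem_inter, SimpleGraph.mem_neighborFinset] at hw
      exact Set.mem_toFinset.2 ⟨hw.1.2, hw.2.2⟩
    omega
  · exfalso
    have e : A * A = (22 : ℕ) • (1 : Matrix Ω Ω ℚ) + (21 : ℕ) • A + (0 : ℕ) • (J - 1 - A) := by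
      rw [← sq, hA, hC]
    set P : Matrix Ω Ω ℚ := (1 / 23 : ℚ) • (A + 1)
    have hP : P * P = P := by
      simp only [P, smul_mul_assoc, mul_smul_comm, add_mul, mul_add, one_mul, mul_one, e]
      module
    obtain ⟨n, hn⟩ := trace_idem_nat P hP
    simp only [P, Matrix.trace_smul, Matrix.trace_add, htrA, htr1, smul_eq_mul] at hn
    have : ((100 : ℕ) : ℚ) = ((23 * n : ℕ) : ℚ) := by push_cast; linarith
    have := (Nat.cast_inj (R := ℚ)).1 this
    omega

open MulAction in
/-- The orbital graph: a triangle-free strongly regular graph invariant under the group. -/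
theorem exists_srg {X : Type*} [Group X] [Finite X] [MulAction X Ω] [MulAction.IsPretransitive X Ω]
    (hΩ : Fintype.card Ω = 100) (a b c : Ω)
    (hb : (MulAction.orbit (MulAction.stabilizer X a) b).ncard = 22)
    (hc : (MulAction.orbit (MulAction.stabilizer X a) c).ncard = 77) :
    ∃ G : SimpleGraph Ω, ∃ _ : DecidableRel G.Adj, G.IsSRGWith 100 22 0 6 ∧
      ∀ (g : X) (x y : Ω), G.Adj (g • x) (g • y) ↔ G.Adj x y := by
  classical
  set K := MulAction.stabilizer X a
  have oa : MulAction.orbit K a = {a} := by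
    ext y
    constructor
    · rintro ⟨k, rfl⟩; exact k.2
    · rintro rfl; exact MulAction.mem_orbit_self _
  have hsize : ∀ y, (MulAction.orbit K y).ncard = 22 →
      MulAction.orbit K y = MulAction.orbit K b := by
    intro y hy
    have hba : Disjoint (MulAction.orbit K b) (MulAction.orbit K c) := by
      rcases (MulAction.orbit.eq_or_disjoint (G := K) b c) with e | e
      · rw [e, hc] at hb; omega
      · exact e
    by_contra hne
    have d1 : Disjoint (MulAction.orbit K y) (MulAction.orbit K b) :=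
      (MulAction.orbit.eq_or_disjoint (G := K) y b).resolve_left hne
    have d2 : Disjoint (MulAction.orbit K y) (MulAction.orbit K c) := by
      rcases (MulAction.orbit.eq_or_disjoint (G := K) y c) with e | e
      · rw [e, hc] at hy; omega
      · exact e
    have u1 := Set.ncard_union_eq d1 (Set.toFinite _) (Set.toFinite _)
    have u2 := Set.ncard_union_eq (Set.disjoint_union_left.2 ⟨d2, hba⟩) (Set.toFinite _)
      (Set.toFinite _)
    have u3 := Set.ncard_le_ncard
      (Set.subset_univ ((MulAction.orbit K y ∪ MulAction.orbit K b) ∪ MulAction.orbit K c))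
    rw [Set.ncard_univ, Nat.card_eq_fintype_card, hΩ] at u3
    omega
  have hab : a ≠ b := by
    rintro rfl
    rw [oa, Set.ncard_singleton] at hb
    omega
  have hac : a ≠ c := by
    rintro rfl
    rw [oa, Set.ncard_singleton] at hc
    omega
  have hother : ∀ y, y ≠ a → y ∉ MulAction.orbit K b → y ∈ MulAction.orbit K c := by
    intro y hya hyb
    by_contra hyc
    have hba : Disjoint (MulAction.orbit K b) (MulAction.orbit K c) := by
      rcases (MulAction.orbit.eq_or_disjoint (G := K) b c) with e | e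
      · rw [e, hc] at hb; omega
      · exact e
    have ha1 : a ∉ MulAction.orbit K b := fun h => by
      rw [← MulAction.orbit_eq_iff.2 h, oa, Set.ncard_singleton] at hb; omega
    have ha2 : a ∉ MulAction.orbit K c := fun h => by
      rw [← MulAction.orbit_eq_iff.2 h, oa, Set.ncard_singleton] at hc; omega
    have u1 := Set.ncard_union_eq hba (Set.toFinite _) (Set.toFinite _)
    have u2 : ({a, y} : Set Ω).ncard = 2 := Set.ncard_pair (Ne.symm hya)
    have d : Disjoint ({a, y} : Set Ω) (MulAction.orbit K b ∪ MulAction.orbit K c) := by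
      rw [Set.disjoint_left]
      rintro z (rfl | rfl) <;> simp [ha1, ha2, hyb, hyc]
    have u4 := Set.ncard_union_eq d (Set.toFinite _) (Set.toFinite _)
    have u3 := Set.ncard_le_ncard
      (Set.subset_univ (({a, y} : Set Ω) ∪ (MulAction.orbit K b ∪ MulAction.orbit K c)))
    rw [Set.ncard_univ, Nat.card_eq_fintype_card, hΩ] at u3
    omega
  -- an element exchanging `a` and `b`
  obtain ⟨s, hs1, hs2⟩ : ∃ s : X, s • a = b ∧ s • b = a := by
    obtain ⟨g, hg⟩ := MulAction.exists_smul_eq X b a
    have key : ∀ y : Ω, (MulAction.orbit K y).ncard *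
        Nat.card {k : X // k • a = a ∧ k • y = y} = Nat.card K := by
      intro y
      rw [← Nat.card_coe_set_eq, ← (MulAction.stabilizer K y).index_mul_card,
        MulAction.index_stabilizer]
      congr 1
      · exact Nat.card_congr
          { toFun := fun k => ⟨⟨k.1, k.2.1⟩, k.2.2⟩
            invFun := fun k => ⟨k.1.1, k.1.2, k.2⟩
            left_inv := fun _ => rfl
            right_inv := fun _ => rfl }
    have ec : Nat.card {k : X // k • a = a ∧ k • (g • a) = g • a} =
        Nat.card {k : X // k • a = a ∧ k • b = b} := by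
      refine Nat.card_congr
        { toFun := fun k => ⟨g⁻¹ * k.1 * g, ?_, ?_⟩
          invFun := fun k => ⟨g * k.1 * g⁻¹, ?_, ?_⟩
          left_inv := fun k => Subtype.ext (by group)
          right_inv := fun k => Subtype.ext (by group) }
      · rw [mul_smul, mul_smul, k.2.2, inv_smul_smul]
      · rw [mul_smul, mul_smul, hg, k.2.1, inv_smul_eq_iff, hg]
      · rw [mul_smul, mul_smul, show g⁻¹ • a = b from inv_smul_eq_iff.2 hg.symm, k.2.2, hg]
      · rw [mul_smul, mul_smul, inv_smul_smul, k.2.1]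
    have h1 := key (g • a)
    rw [ec, ← key b] at h1
    have hpos : 0 < Nat.card {k : X // k • a = a ∧ k • b = b} := by
      haveI : Nonempty {k : X // k • a = a ∧ k • b = b} := ⟨⟨1, by simp, by simp⟩⟩
      exact Nat.card_pos
    have h22 := (Nat.eq_of_mul_eq_mul_right hpos h1).trans hb
    have hm : g • a ∈ MulAction.orbit K b := hsize _ h22 ▸ MulAction.mem_orbit_self _
    obtain ⟨k, hk⟩ := hm
    refine ⟨(k : X)⁻¹ * g, ?_, ?_⟩
    · rw [mul_smul, inv_smul_eq_iff]; exact hk.symm
    · rw [mul_smul, hg, inv_smul_eq_iff]; exact k.2.symm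
  let G : SimpleGraph Ω :=
    { Adj := fun x y => ∃ g : X, g • a = x ∧ g • b = y
      symm := ⟨fun x y ⟨g, h1, h2⟩ => ⟨g * s, by rw [mul_smul, hs1, h2], by rw [mul_smul, hs2, h1]⟩⟩
      loopless := ⟨fun x ⟨g, h1, h2⟩ => hab (smul_left_cancel g (h1.trans h2.symm))⟩ }
  have hinv : ∀ (g : X) (x y : Ω), G.Adj (g • x) (g • y) ↔ G.Adj x y := by
    intro g x y
    constructor
    · rintro ⟨h, h1, h2⟩
      exact ⟨g⁻¹ * h, by rw [mul_smul, h1, inv_smul_smul], by rw [mul_smul, h2, inv_smul_smul]⟩
    · rintro ⟨h, h1, h2⟩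
      exact ⟨g * h, by rw [mul_smul, h1], by rw [mul_smul, h2]⟩
  have hnbr : ∀ y, G.Adj a y ↔ y ∈ MulAction.orbit K b := by
    intro y
    constructor
    · rintro ⟨g, h1, h2⟩; exact ⟨⟨g, h1⟩, h2⟩
    · rintro ⟨k, hk⟩; exact ⟨k, k.2, hk⟩
  have hd : (G.neighborFinset a).card = 22 := by
    rw [← hb, ← Set.ncard_coe_finset]
    congr 1
    ext y
    simp [hnbr y]
  let cm : Ω → Ω → ℕ := fun x y => (G.neighborFinset x ∩ G.neighborFinset y).card
  have hcm : ∀ (g : X) (x y : Ω), cm (g • x) (g • y) = cm x y := by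
    intro g x y
    refine (Finset.card_bij (fun z _ => g • z) ?_ ?_ ?_).symm
    · intro z hz
      simpa [hinv] using hz
    · intro z _ w _ e; exact smul_left_cancel g e
    · intro w hw
      refine ⟨g⁻¹ • w, ?_, smul_inv_smul g w⟩
      rw [Finset.mem_inter, SimpleGraph.mem_neighborFinset, SimpleGraph.mem_neighborFinset] at hw ⊢
      rw [← hinv g x, ← hinv g y, smul_inv_smul]
      exact hw
  have hcn : ∀ x y, Fintype.card (G.commonNeighbors x y) = cm x y := by
    intro x y
    rw [← Set.toFinset_card]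
    congr 1
    ext z
    rw [Set.mem_toFinset]
    simp [SimpleGraph.commonNeighbors]
  have hreg : G.IsRegularOfDegree 22 := by
    intro x
    obtain ⟨g, rfl⟩ := MulAction.exists_smul_eq X a x
    rw [← SimpleGraph.card_neighborFinset_eq_degree, ← hd]
    refine (Finset.card_bij (fun z _ => g • z) ?_ ?_ ?_).symm
    · intro z hz
      simpa [hinv] using hz
    · intro z _ w _ e; exact smul_left_cancel g e
    · intro w hw
      refine ⟨g⁻¹ • w, ?_, smul_inv_smul g w⟩
      rw [SimpleGraph.mem_neighborFinset] at hw ⊢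
      rw [← hinv g a, smul_inv_smul]
      exact hw
  have hsrg : G.IsSRGWith 100 22 (cm a b) (cm a c) := by
    refine ⟨hΩ, hreg, ?_, ?_⟩
    · intro x y hxy
      obtain ⟨g, h1, h2⟩ := hxy
      rw [hcn, ← h1, ← h2, hcm]
    · intro x y hne hnadj
      obtain ⟨g, rfl⟩ := MulAction.exists_smul_eq X a x
      obtain ⟨y, rfl⟩ : ∃ y', g • y' = y := ⟨g⁻¹ • y, smul_inv_smul g y⟩
      rw [hinv] at hnadj
      obtain ⟨k, hk⟩ := hother y (fun e => hne (by rw [e])) (fun h => hnadj ((hnbr y).2 h))
      rw [hcn, hcm, ← hk]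
      show cm a ((k : X) • c) = cm a c
      conv_lhs => arg 1; rw [← show (k : X) • a = a from k.2]
      rw [hcm]
  have hadjab : G.Adj a b := ⟨1, one_smul _ _, one_smul _ _⟩
  have hnadjac : ¬ G.Adj a c := fun h => by
    have := MulAction.orbit_eq_iff.2 ((hnbr c).1 h)
    rw [this, hb] at hc
    omega
  have hl : cm a b ≤ 21 := by
    have h1 : G.neighborFinset a ∩ G.neighborFinset b ⊆ (G.neighborFinset b).erase a := fun z hz => by
      rw [Finset.mem_inter, SimpleGraph.mem_neighborFinset] at hz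
      exact Finset.mem_erase.2 ⟨(G.ne_of_adj hz.1).symm, hz.2⟩
    have h2 := Finset.card_le_card h1
    rw [Finset.card_erase_of_mem (by simpa using hadjab.symm),
      SimpleGraph.card_neighborFinset_eq_degree, hreg b] at h2
    exact h2
  have hpe := SimpleGraph.IsSRGWith.param_eq G hsrg (by norm_num)
  have hlm : 2 * (21 - cm a b) = 7 * cm a c := by omega
  obtain ⟨e1, e2⟩ := srg_params hsrg hl hlm
  rw [e1, e2] at hsrg
  exact ⟨G, inferInstance, hsrg, hinv⟩

end Cfsg.Agent.Lib.HSRankThree49
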