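import Cfsg.Prelude.Def_Spor_Conway
import Cfsg.Agent.Lib.HSRankThree49.Graph
import Cfsg.Agent.S1586
import Cfsg.Agent.S1583
import Cfsg.Agent.S1584
import Cfsg.Agent.S0405
import Cfsg.Agent.Lib.Steiner22.GraphIso
import Cfsg.Agent.Lib.Steiner22.Reconstruct
import Cfsg.Agent.Lib.Co3Model.HS

/-!
A group of order 44352000 acting on 100 points with suborbits 1, 22, 77 is the Higman-Sims group.
-/

set_option autoImplicit false

namespace Cfsg.Agent.Lib.HSRankThree49

open Cfsg

/-- Two subgroups of index two of which one is simple coincide. -/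
theorem eq_of_simple_index_two {A : Type*} [Group A] [Finite A] (S T : Subgroup A)
    [hS : IsSimpleGroup S] (h4 : 4 < Nat.card A) (hiS : S.index = 2) (hiT : T.index = 2) : T = S := by
  haveI : T.Normal := Subgroup.normal_of_index_eq_two hiT
  have hn : (T.subgroupOf S).Normal := Subgroup.normal_subgroupOf
  rcases hS.eq_bot_or_eq_top_of_normal _ hn with h | h
  · exfalso
    have h1 : (T.subgroupOf S).index ∣ 2 := by
      rw [← hiT]
      exact Subgroup.relIndex_dvd_index_of_normal T S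
    rw [h, Subgroup.index_bot] at h1
    have h2 := Nat.le_of_dvd two_pos h1
    have h3 := S.card_mul_index
    rw [hiS] at h3
    omega
  · refine (Subgroup.eq_of_le_of_card_ge (Subgroup.subgroupOf_eq_top.1 h) ?_).symm
    have h3 := S.card_mul_index
    have h4 := T.card_mul_index
    rw [hiS] at h3
    rw [hiT] at h4
    omega

variable {V W : Type*}

/-- An isomorphism of graphs identifies the automorphism groups. -/
def autCongr {G : SimpleGraph V} {H : SimpleGraph W} (e : G ≃g H) : (G ≃g G) ≃* (H ≃g H) where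
  toFun a := (e.symm.trans a).trans e
  invFun b := (e.trans b).trans e.symm
  left_inv a := by ext x; simp
  right_inv b := by ext x; simp
  map_mul' a b := by ext x; simp

theorem card_aut [Fintype V] [DecidableEq V] {G : SimpleGraph V} [DecidableRel G.Adj]
    (h : G.IsSRGWith 100 22 0 6) (v : V) : Nat.card (G ≃g G) = 88704000 := by
  classical
  rw [← Nat.card_congr (autCongr (Steiner22.reconstructIso h v)).toEquiv]
  exact Cfsg.Agent.S1586.result (Steiner22.card_nbr h v) (Steiner22.steiner_blk h v)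

/-- The representation of a group on an invariant graph. -/
def autHom {X : Type*} [Group X] [MulAction X V] (G : SimpleGraph V)
    (hinv : ∀ (g : X) (x y : V), G.Adj (g • x) (g • y) ↔ G.Adj x y) : X →* (G ≃g G) where
  toFun g := ⟨MulAction.toPerm g, fun {x y} => hinv g x y⟩
  map_one' := by ext x; exact one_smul X x
  map_mul' g h := by ext x; exact mul_smul g h x

theorem autHom_injective {X : Type*} [Group X] [MulAction X V] [FaithfulSMul X V] (G : SimpleGraph V)
    (hinv : ∀ (g : X) (x y : V), G.Adj (g • x) (g • y) ↔ G.Adj x y) :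
    Function.Injective (autHom G hinv) := fun g h e =>
  eq_of_smul_eq_smul fun x => DFunLike.congr_fun e x

theorem iso_of_actions [Fintype V] [Fintype W] {X Y : Type*} [Group X] [Finite X] [Group Y]
    [Finite Y] [IsSimpleGroup Y] [MulAction X V] [MulAction Y W] [FaithfulSMul X V]
    [FaithfulSMul Y W] [MulAction.IsPretransitive X V] [MulAction.IsPretransitive Y W]
    (hX : Nat.card X = 44352000) (hY : Nat.card Y = 44352000)
    (hV : Fintype.card V = 100) (hW : Fintype.card W = 100) (a b c : V) (a' b' c' : W)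
    (hb : (MulAction.orbit (MulAction.stabilizer X a) b).ncard = 22)
    (hc : (MulAction.orbit (MulAction.stabilizer X a) c).ncard = 77)
    (hb' : (MulAction.orbit (MulAction.stabilizer Y a') b').ncard = 22)
    (hc' : (MulAction.orbit (MulAction.stabilizer Y a') c').ncard = 77) : Nonempty (X ≃* Y) := by
  classical
  obtain ⟨G, _, hG, hiG⟩ := exists_srg hV a b c hb hc
  obtain ⟨H, _, hH, hiH⟩ := exists_srg hW a' b' c' hb' hc'
  obtain ⟨e, -⟩ := Steiner22.exists_iso_srg hG hH a a'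
  let f : X →* (H ≃g H) := (autCongr e).toMonoidHom.comp (autHom G hiG)
  let f' : Y →* (H ≃g H) := autHom H hiH
  have hf : Function.Injective f := (autCongr e).injective.comp (autHom_injective G hiG)
  have hf' : Function.Injective f' := autHom_injective H hiH
  haveI : Finite (H ≃g H) := Finite.of_injective (fun a : H ≃g H => a.toEquiv)
    fun _ _ h => RelIso.toEquiv_injective h
  have hA := card_aut hH a'
  have h1 := f.range.card_mul_index
  have h2 := f'.range.card_mul_index
  rw [Nat.card_congr (MonoidHom.ofInjective hf).symm.toEquiv, hX, hA] at h1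
  rw [Nat.card_congr (MonoidHom.ofInjective hf').symm.toEquiv, hY, hA] at h2
  haveI : IsSimpleGroup f'.range := (MonoidHom.ofInjective hf').isSimpleGroup_congr.1 inferInstance
  have heq : f.range = f'.range :=
    eq_of_simple_index_two f'.range f.range (by rw [hA]; norm_num) (by omega) (by omega)
  exact ⟨((MonoidHom.ofInjective hf).trans (MulEquiv.subgroupCongr heq)).trans
    (MonoidHom.ofInjective hf').symm⟩

section Leech

open Cfsg.Agent.Lib.Leech Cfsg.Agent.Lib.Co3Model.HS

/-- The 100 vectors of the Higman-Sims configuration. -/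
def Pts : Set leechLattice :=
  {x | sqNorm (vec x) = 32 ∧ dotInt (vec Spor.leechV) (vec x) = 24 ∧
    dotInt (vec wW) (vec x) = -24}

theorem hnV : sqNorm (vec Spor.leechV) = 48 := by decide +kernel
theorem hnW : sqNorm (vec wW) = 48 := by decide +kernel
theorem hdVW : dotInt (vec Spor.leechV) (vec wW) = -32 := by decide +kernel

theorem mem_HS_iff {g : Equiv.Perm leechLattice} (hg : g ∈ Co0) :
    g ∈ Spor.HS ↔ (⟨g, hg⟩ : Co0) • Spor.leechV = Spor.leechV ∧ (⟨g, hg⟩ : Co0) • wW = wW := by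
  constructor
  · rintro ⟨⟨-, h1⟩, h2⟩
    have h1' : (⟨g, hg⟩ : Co0) • Spor.leechV = Spor.leechV := h1
    have h2' : (⟨g, hg⟩ : Co0) • Spor.leechU' = Spor.leechU' := h2
    refine ⟨h1', ?_⟩
    show (⟨g, hg⟩ : Co0) • -(Spor.leechV + Spor.leechU') = -(Spor.leechV + Spor.leechU')
    rw [smul_neg', smul_add', h1', h2']
  · rintro ⟨h1, h2⟩
    refine ⟨⟨hg, h1⟩, ?_⟩
    have h2' : (⟨g, hg⟩ : Co0) • -(Spor.leechV + Spor.leechU') = -(Spor.leechV + Spor.leechU') := h2
    rw [smul_neg', smul_add', h1] at h2'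
    exact add_left_cancel (neg_injective h2')

theorem smul_mem_Pts (g : ↥Spor.HS) {x : leechLattice} (hx : x ∈ Pts) :
    (g : Equiv.Perm leechLattice) x ∈ Pts := by
  have hg : (g : Equiv.Perm leechLattice) ∈ Co0 := g.2.1.1
  obtain ⟨h1, h2⟩ := (mem_HS_iff hg).1 g.2
  show (⟨_, hg⟩ : Co0) • x ∈ Pts
  refine ⟨?_, ?_, ?_⟩
  · rw [norm_smul']; exact hx.1
  · conv_lhs => rw [← h1]
    rw [dot_smul]; exact hx.2.1
  · conv_lhs => rw [← h2]
    rw [dot_smul]; exact hx.2.2

noncomputable instance ptsAction : MulAction ↥Spor.HS ↥Pts where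
  smul g x := ⟨(g : Equiv.Perm leechLattice) x, smul_mem_Pts g x.2⟩
  one_smul _ := rfl
  mul_smul _ _ _ := rfl

theorem ptsAction_coe (g : ↥Spor.HS) (x : ↥Pts) :
    ((g • x : ↥Pts) : leechLattice) = (g : Equiv.Perm leechLattice) x := rfl

theorem isSimple_HS : IsSimpleGroup ↥Spor.HS := by
  have h := (Cfsg.Agent.S0405.result Spor.leechV wW hnV hnW hdVW).1
  let e : ↥Spor.HS ≃* ↥(MulAction.stabilizer Co0 Spor.leechV ⊓ MulAction.stabilizer Co0 wW) :=
    { toFun := fun g => ⟨⟨g.1, g.2.1.1⟩, (mem_HS_iff g.2.1.1).1 g.2⟩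
      invFun := fun g => ⟨g.1.1, (mem_HS_iff g.1.2).2 g.2⟩
      left_inv := fun _ => rfl
      right_inv := fun _ => rfl
      map_mul' := fun _ _ => rfl }
  exact e.isSimpleGroup_congr.2 h

theorem card_HS : Nat.card ↥Spor.HS = 44352000 := by
  rw [Nat.card_congr hsEquiv.toEquiv, card_Hs]

theorem card_Pts : Nat.card ↥Pts = 100 := by
  rw [Nat.card_coe_set_eq]
  exact (Cfsg.Agent.S1583.result Spor.leechV wW hnV hnW hdVW).1

theorem pts_finite : Finite ↥Pts := Nat.finite_of_card_ne_zero (by rw [card_Pts]; norm_num)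

theorem pts_transitive : MulAction.IsPretransitive ↥Spor.HS ↥Pts := ⟨fun x y => by
  obtain ⟨g, h1, h2, h3⟩ :=
    (Cfsg.Agent.S1583.result Spor.leechV wW hnV hnW hdVW).2 x.1 x.2 y.1 y.2
  exact ⟨⟨g.1, (mem_HS_iff g.2).2 ⟨h1, h2⟩⟩, Subtype.ext h3⟩⟩

theorem pts_faithful : FaithfulSMul ↥Spor.HS ↥Pts := by
  haveI := isSimple_HS
  haveI := pts_transitive
  haveI := pts_finite
  obtain ⟨x, y, hxy⟩ : ∃ x y : ↥Pts, x ≠ y := by
    by_contra h
    push Not at h
    haveI : Subsingleton ↥Pts := ⟨h⟩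
    have := card_Pts
    have h1 : Nat.card ↥Pts ≤ 1 := Finite.card_le_one_iff_subsingleton.2 inferInstance
    omega
  rcases (MulAction.toPermHom ↥Spor.HS ↥Pts).normal_ker.eq_bot_or_eq_top with h | h
  · exact ⟨fun {g g'} e => (MonoidHom.ker_eq_bot_iff _).1 h (Equiv.ext e)⟩
  · obtain ⟨g, hg⟩ := MulAction.exists_smul_eq ↥Spor.HS x y
    have hk : g ∈ (MulAction.toPermHom ↥Spor.HS ↥Pts).ker := h ▸ Subgroup.mem_top g
    have he := Equiv.ext_iff.1 (MonoidHom.mem_ker.1 hk) x
    exact absurd ((he.symm.trans hg)) hxy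

theorem pts_suborbits : ∃ a b c : ↥Pts,
    (MulAction.orbit (MulAction.stabilizer ↥Spor.HS a) b).ncard = 22 ∧
    (MulAction.orbit (MulAction.stabilizer ↥Spor.HS a) c).ncard = 77 := by
  haveI := pts_finite
  obtain ⟨a⟩ : Nonempty ↥Pts := (Nat.card_pos_iff.1 (by rw [card_Pts]; norm_num)).1
  obtain ⟨h22, h77, htr⟩ :=
    Cfsg.Agent.S1584.result Spor.leechV wW a.1 hnV hnW hdVW a.2
  have haa : dotInt (vec a.1) (vec a.1) = 32 := by
    rw [SporStruct.LeechPairs.dot_self]; exact a.2.1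
  obtain ⟨b, hb, hab⟩ := Set.nonempty_of_ncard_ne_zero (by rw [h22]; norm_num)
  obtain ⟨c, hc, hca, hac⟩ := Set.nonempty_of_ncard_ne_zero (by rw [h77]; norm_num)
  have hfix : ∀ k : MulAction.stabilizer ↥Spor.HS a, ∀ y : ↥Pts,
      dotInt (vec a.1) (vec (k • y).1) = dotInt (vec a.1) (vec y.1) ∧
        ((k • y).1 = a.1 ↔ y.1 = a.1) := by
    intro k y
    have hk : ((k : ↥Spor.HS) • a).1 = a.1 := congrArg Subtype.val k.2
    constructor
    · conv_lhs => rw [← hk]
      exact dot_smul ⟨_, (k : ↥Spor.HS).2.1.1⟩ a.1 y.1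
    · constructor
      · intro e
        exact ((k : ↥Spor.HS).1).injective ((show (k : ↥Spor.HS).1 y.1 = a.1 from e).trans hk.symm)
      · intro e
        show (k : ↥Spor.HS).1 y.1 = a.1
        rw [e]; exact hk
  have hin : ∀ (y : ↥Pts) (z : leechLattice) (hz : z ∈ Pts), y.1 ≠ a.1 → z ≠ a.1 →
      (dotInt (vec a.1) (vec y.1) = 8 ↔ dotInt (vec a.1) (vec z) = 8) →
      (⟨z, hz⟩ : ↥Pts) ∈ MulAction.orbit (MulAction.stabilizer ↥Spor.HS a) y := by
    intro y z hz h1 h2 h3
    obtain ⟨g, g1, g2, g3, g4⟩ := htr y.1 y.2 z hz h1 h2 h3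
    exact ⟨⟨⟨g.1, (mem_HS_iff g.2).2 ⟨g1, g2⟩⟩, Subtype.ext g3⟩, Subtype.ext g4⟩
  have hba : b ≠ a.1 := fun e => by
    rw [e] at hab
    have : dotInt (vec a.1) (vec a.1) = 8 := hab
    omega
  refine ⟨a, ⟨b, hb⟩, ⟨c, hc⟩, ?_, ?_⟩
  · rw [← h22]
    refine (Set.ncard_image_of_injective _ Subtype.val_injective).symm.trans (congrArg _ ?_)
    ext z
    constructor
    · rintro ⟨_, ⟨k, rfl⟩, rfl⟩
      exact ⟨(k • (⟨b, hb⟩ : ↥Pts)).2, (hfix k ⟨b, hb⟩).1.trans hab⟩
    · rintro ⟨hz, hd⟩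
      refine ⟨⟨z, hz⟩, hin ⟨b, hb⟩ z hz hba ?_ (iff_of_true hab hd), rfl⟩
      intro e
      rw [e] at hd
      have : dotInt (vec a.1) (vec a.1) = 8 := hd
      omega
  · rw [← h77]
    refine (Set.ncard_image_of_injective _ Subtype.val_injective).symm.trans (congrArg _ ?_)
    ext z
    constructor
    · rintro ⟨_, ⟨k, rfl⟩, rfl⟩
      exact ⟨(k • (⟨c, hc⟩ : ↥Pts)).2, fun e => hca ((hfix k ⟨c, hc⟩).2.1 e),
        fun e => hac ((hfix k ⟨c, hc⟩).1.symm.trans e)⟩
    · rintro ⟨hz, hza, hd⟩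
      exact ⟨⟨z, hz⟩, hin ⟨c, hc⟩ z hz hca hza (iff_of_false hac hd), rfl⟩

theorem iso_HS [Fintype V] {X : Type*} [Group X] [Finite X] [MulAction X V] [FaithfulSMul X V]
    [MulAction.IsPretransitive X V] (hX : Nat.card X = 44352000) (hV : Fintype.card V = 100)
    (a b c : V) (hb : (MulAction.orbit (MulAction.stabilizer X a) b).ncard = 22)
    (hc : (MulAction.orbit (MulAction.stabilizer X a) c).ncard = 77) :
    Nonempty (X ≃* ↥Spor.HS) := by
  haveI := pts_finite
  haveI := pts_transitive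
  haveI := pts_faithful
  haveI := isSimple_HS
  haveI : Finite ↥Spor.HS := Nat.finite_of_card_ne_zero (by rw [card_HS]; norm_num)
  letI : Fintype ↥Pts := Fintype.ofFinite _
  obtain ⟨a', b', c', hb', hc'⟩ := pts_suborbits
  exact iso_of_actions hX card_HS hV (by rw [← Nat.card_eq_fintype_card, card_Pts]) a b c a' b' c'
    hb hc hb' hc'

end Leech

end Cfsg.Agent.Lib.HSRankThree49
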